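import Mathlib
import Groth.Agent.Lib.Helper9.GenFree.Main2
import Groth.Agent.Lib.Helper9.GenFree.Conv
import Groth.Agent.Lib.Helper9.GenFree.Exact

/-! helper7: spreading out non-reducedness of fibres of finite type algebras from the generic
point to a basic open, via generic freeness (relative bases of helper9). -/

set_option linter.style.haveILetI false
set_option linter.unusedVariables false
set_option linter.unusedSectionVars false
set_option autoImplicit false

open TensorProduct

namespace Groth.Agent.Helper7.NonRed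

universe u

open Groth.Agent.Helper9.GenFree

/-- Version of `IsABasis.of_exact` remembering that the new relative basis contains the old one
of the submodule. -/
theorem isABasis_of_exact' {R : Type u} [CommRing R] {Q : Type u} [AddCommGroup Q] [Module R Q]
    {a : R} (Q' : Submodule R Q) {ι' ι'' : Type u} {b' : ι' → Q'}
    {b'' : ι'' → Q ⧸ Q'} (h' : IsABasis a b') (h'' : IsABasis a b'') :
    ∃ (ι : Type u) (b : ι → Q), IsABasis a b ∧ ∀ i : ι', ∃ j : ι, b j = (b' i : Q) := by
  classical
  have hlift : ∀ j, ∃ q : Q, Q'.mkQ q = b'' j := fun j => Q'.mkQ_surjective (b'' j)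
  choose bl hbl using hlift
  have hlc' : ∀ c : ι' →₀ R, Finsupp.linearCombination R (fun i => (b' i : Q)) c =
      Q'.subtype (Finsupp.linearCombination R b' c) := by
    intro c
    rw [Finsupp.linearCombination_apply, Finsupp.linearCombination_apply, map_finsuppSum]
    simp
  have hlc'' : ∀ c : ι'' →₀ R, Q'.mkQ (Finsupp.linearCombination R bl c) =
      Finsupp.linearCombination R b'' c := by
    intro c
    rw [Finsupp.linearCombination_apply, Finsupp.linearCombination_apply, map_finsuppSum]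
    simp [hbl]
  have key := isABasis_of_filtration a (Nf Q') rfl (Nf_mono Q') (fun m => ⟨2, trivial⟩)
    (ιf ι' ι'') (bf (fun i => (b' i : Q)) bl) ?_ ?_ ?_
  · exact ⟨_, _, key, fun i => ⟨⟨0, i⟩, rfl⟩⟩
  · intro k i
    rcases k with _ | _ | k
    · exact (b' i).2
    · trivial
    · exact i.elim
  · intro k
    rcases k with _ | _ | k
    · change ∀ c : ι' →₀ R, (∃ j : ℕ, a ^ j • Finsupp.linearCombination R
        (fun i => (b' i : Q)) c ∈ (⊥ : Submodule R Q)) → c = 0
      rintro c ⟨j, hj⟩
      apply h'.1 c ⟨j, ?_⟩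
      apply Subtype.ext
      rw [Submodule.mem_bot, hlc'] at hj
      rw [Submodule.coe_smul, Submodule.coe_zero, ← hj]
      rfl
    · change ∀ c : ι'' →₀ R, (∃ j : ℕ, a ^ j • Finsupp.linearCombination R bl c ∈ Q') → c = 0
      rintro c ⟨j, hj⟩
      apply h''.1 c ⟨j, ?_⟩
      rw [← Submodule.Quotient.mk_eq_zero, Submodule.Quotient.mk_smul] at hj
      rw [← hj, ← hlc'']
      rfl
    · intro c _; ext i; exact i.elim
  · intro k
    rcases k with _ | _ | k
    · change ∀ m ∈ Q', ∃ (j : ℕ) (c : ι' →₀ R), a ^ j • m - Finsupp.linearCombination R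
        (fun i => (b' i : Q)) c ∈ (⊥ : Submodule R Q)
      intro m hm
      obtain ⟨j, hj⟩ := h'.2 ⟨m, hm⟩
      obtain ⟨c, hc⟩ := (Finsupp.mem_span_range_iff_exists_finsupp).mp hj
      refine ⟨j, c, ?_⟩
      rw [Submodule.mem_bot, sub_eq_zero, hlc']
      have h1 := congrArg Q'.subtype hc
      rw [← Finsupp.linearCombination_apply] at h1
      rw [h1]
      rfl
    · change ∀ m ∈ (⊤ : Submodule R Q), ∃ (j : ℕ) (c : ι'' →₀ R),
        a ^ j • m - Finsupp.linearCombination R bl c ∈ Q'
      intro m _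
      obtain ⟨j, hj⟩ := h''.2 (Q'.mkQ m)
      obtain ⟨c, hc⟩ := (Finsupp.mem_span_range_iff_exists_finsupp).mp hj
      refine ⟨j, c, ?_⟩
      rw [← Submodule.Quotient.mk_eq_zero, Submodule.Quotient.mk_sub, sub_eq_zero,
        Submodule.Quotient.mk_smul]
      change a ^ j • Q'.mkQ m = Q'.mkQ _
      rw [hlc'', ← hc, Finsupp.linearCombination_apply]
    · intro m _; exact ⟨0, 0, trivial⟩

/-- An `a`-basis gives an explicit basis of the localization at `a`. -/
theorem exists_basis_of_isABasis {A : Type*} [CommRing A] {M : Type*} [AddCommGroup M]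
    [Module A M] {a : A} {ι : Type*} {b : ι → M} (h : IsABasis a b) :
    ∃ v : Module.Basis ι (Localization.Away a) (LocalizedModule (Submonoid.powers a) M),
      ∀ i, v i = LocalizedModule.mkLinearMap (Submonoid.powers a) M (b i) := by
  classical
  set S := Submonoid.powers a
  set f := LocalizedModule.mkLinearMap S M
  have hli : LinearIndependent A (fun i => f (b i)) := by
    rw [linearIndependent_iff]
    intro c hc
    apply h.1 c
    have h1 : f (Finsupp.linearCombination A b c) = 0 := by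
      rw [← hc, Finsupp.linearCombination_apply, Finsupp.linearCombination_apply, map_finsuppSum]
      simp
    obtain ⟨s, hs⟩ := (IsLocalizedModule.eq_zero_iff S f).mp h1
    obtain ⟨k, hk⟩ := s.2
    have hk' : a ^ k = (s : A) := hk
    exact ⟨k, by rw [hk']; exact hs⟩
  have hli' : LinearIndependent (Localization.Away a) (fun i => f (b i)) :=
    hli.localization (Localization.Away a) S
  have hsp : ⊤ ≤ Submodule.span (Localization.Away a) (Set.range fun i => f (b i)) := by
    intro x _
    induction x using LocalizedModule.induction_on with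
    | h m s =>
      obtain ⟨k, hk⟩ := h.2 m
      have h1 : f (a ^ k • m) ∈ Submodule.span (Localization.Away a)
          (Set.range fun i => f (b i)) := by
        have h2 : f (a ^ k • m) ∈ Submodule.map f (Submodule.span A (Set.range b)) :=
          Submodule.mem_map_of_mem hk
        rw [Submodule.map_span, ← Set.range_comp] at h2
        exact Submodule.span_le_restrictScalars A (Localization.Away a) _ h2
      have h3 : LocalizedModule.mk m s =
          (Localization.mk 1 (s * ⟨a ^ k, k, rfl⟩) : Localization.Away a) • f (a ^ k • m) := by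
        rw [LocalizedModule.mkLinearMap_apply, LocalizedModule.mk_smul_mk, one_smul,
          LocalizedModule.mk_eq]
        refine ⟨1, ?_⟩
        simp only [one_smul, Submonoid.smul_def, Submonoid.coe_mul, mul_one]
        rw [mul_smul]
      rw [h3]
      exact Submodule.smul_mem _ _ h1
  exact ⟨Module.Basis.mk hli' hsp, fun i => Module.Basis.mk_apply hli' hsp i⟩

/-- NR': a torsion-free nilpotent element of a finite type algebra over a domain stays a nonzero
nilpotent in the fibres over a nonempty basic open. -/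
theorem not_isReduced_of_nilpotent_torsionFree {R C : Type u} [CommRing R] [IsDomain R]
    [CommRing C] [Algebra R C] [Algebra.FiniteType R C] (x : C) (hx : IsNilpotent x)
    (htf : ∀ r : R, r ≠ 0 → r • x ≠ 0) :
    ∃ a : R, a ≠ 0 ∧ ∀ (K : Type u) [Field K] [Algebra R K], algebraMap R K a ≠ 0 →
      ¬ IsReduced (K ⊗[R] C) := by
  classical
  let M : Ideal C := Ideal.span {x}
  let Q' : Submodule R C := M.restrictScalars R
  haveI : Module.Finite C M := Module.Finite.iff_fg.mpr ⟨{x}, by simp [M]⟩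
  have h1 : HasABasis R Q' := by
    have h0 : HasABasis R M := goodRing_of_finiteType' R C M
    exact h0.of_equiv ((Submodule.restrictScalarsEquiv R C C M).symm.restrictScalars R)
  have h2 : HasABasis R (C ⧸ Q') := by
    have h0 : HasABasis R (C ⧸ M) := goodRing_of_finiteType' R C (C ⧸ M)
    exact h0.of_equiv (Submodule.Quotient.restrictScalarsEquiv R M).symm
  obtain ⟨a', ha', ι', b', hb'⟩ := h1
  obtain ⟨a'', ha'', ι'', b'', hb''⟩ := h2
  obtain ⟨ι, b, hb, hbb'⟩ := isABasis_of_exact' Q' (hb'.mul ha'') (hb''.mul' ha')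
  have ha : a' * a'' ≠ 0 := mul_ne_zero ha' ha''
  refine ⟨a' * a'', ha, ?_⟩
  intro K _ _ hK
  have hne : Nonempty ι' := by
    by_contra hemp
    rw [not_nonempty_iff] at hemp
    obtain ⟨k, hk⟩ := (hb'.mul ha'').2 ⟨x, Ideal.subset_span rfl⟩
    have hr : Set.range b' = ∅ := Set.range_eq_empty b'
    rw [hr, Submodule.span_empty, Submodule.mem_bot] at hk
    have hk2 := congrArg Subtype.val hk
    exact htf _ (pow_ne_zero k ha) hk2
  obtain ⟨i₀⟩ := hne
  obtain ⟨j₀, hj₀⟩ := hbb' i₀
  obtain ⟨v, hv⟩ := exists_basis_of_isABasis hb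
  have hu : IsUnit (algebraMap R K (a' * a'')) := IsUnit.mk0 _ hK
  let ψ : Localization.Away (a' * a'') →+* K := IsLocalization.Away.lift (a' * a'') hu
  have hψ : ∀ r : R, ψ (algebraMap R _ r) = algebraMap R K r :=
    fun r => IsLocalization.Away.lift_eq _ hu r
  let ψₗ : Localization.Away (a' * a'') →ₗ[R] K :=
    { toFun := ψ
      map_add' := map_add ψ
      map_smul' := fun r z => by
        simp only [RingHom.id_apply]
        rw [Algebra.smul_def, map_mul, hψ, Algebra.smul_def] }
  let lam : C →ₗ[R] K := ψₗ ∘ₗ ((v.coord j₀).restrictScalars R) ∘ₗ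
    (LocalizedModule.mkLinearMap (Submonoid.powers (a' * a'')) C)
  have hlam : lam (b' i₀ : C) = 1 := by
    change ψ (v.coord j₀ (LocalizedModule.mkLinearMap (Submonoid.powers (a' * a'')) C
      (b' i₀ : C))) = 1
    rw [← hj₀, ← hv j₀, Module.Basis.coord_apply, Module.Basis.repr_self, Finsupp.single_eq_same]
    exact map_one ψ
  let μ : K ⊗[R] C →ₗ[R] K := LinearMap.mul' R K ∘ₗ LinearMap.lTensor K lam
  intro hred
  obtain ⟨n, hn⟩ := hx
  have hz : (1 : K) ⊗ₜ[R] x = 0 := by
    apply IsNilpotent.eq_zero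
    exact ⟨n, by rw [Algebra.TensorProduct.tmul_pow, hn, one_pow, TensorProduct.tmul_zero]⟩
  obtain ⟨c, hc⟩ := Ideal.mem_span_singleton'.mp (b' i₀).2
  have h0 : (1 : K) ⊗ₜ[R] (b' i₀ : C) = 0 := by
    rw [← hc, ← mul_one (1 : K), ← Algebra.TensorProduct.tmul_mul_tmul, hz, mul_zero]
  have h3 := congrArg μ h0
  simp only [μ, LinearMap.comp_apply, LinearMap.lTensor_tmul, LinearMap.mul'_apply, hlam,
    mul_one, map_zero] at h3
  exact one_ne_zero h3

/-- NR: non-reducedness of the fibre over a minimal-type point spreads to a basic open. -/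
theorem exists_forall_not_isReduced {A B : Type u} [CommRing A] [CommRing B] [Algebra A B]
    [Algebra.FiniteType A B] (K₀ : Type u) [Field K₀] [Algebra A K₀]
    (hfrac : ∀ z : K₀, ∃ s a : A, algebraMap A K₀ s ≠ 0 ∧
      algebraMap A K₀ s * z = algebraMap A K₀ a)
    (h : ¬ IsReduced (B ⊗[A] K₀)) :
    ∃ a : A, algebraMap A K₀ a ≠ 0 ∧ ∀ (K : Type u) [Field K] [Algebra A K],
      (∀ t : A, algebraMap A K₀ t = 0 → algebraMap A K t = 0) → algebraMap A K a ≠ 0 →
      ¬ IsReduced (B ⊗[A] K) := by
  classical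
  let p₀ : Ideal A := RingHom.ker (algebraMap A K₀)
  haveI : p₀.IsPrime := RingHom.ker_isPrime _
  let R := A ⧸ p₀
  let φ₀ : R →+* K₀ := RingHom.kerLift (algebraMap A K₀)
  have hφ₀ : Function.Injective φ₀ := RingHom.kerLift_injective _
  letI algRK₀ : Algebra R K₀ := φ₀.toAlgebra
  haveI : IsScalarTower A R K₀ := IsScalarTower.of_algebraMap_eq (fun t => rfl)
  haveI : FaithfulSMul R K₀ := (faithfulSMul_iff_algebraMap_injective R K₀).mpr hφ₀
  haveI : IsFractionRing R K₀ := IsFractionRing.of_field R K₀ (fun z => by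
    obtain ⟨s, a, hs, hsa⟩ := hfrac z
    refine ⟨Ideal.Quotient.mk p₀ a, Ideal.Quotient.mk p₀ s, ?_⟩
    change z = algebraMap A K₀ a / algebraMap A K₀ s
    rw [eq_div_iff hs, mul_comm]
    exact hsa)
  let C := R ⊗[A] B
  -- Step 1
  have h1 : ¬ IsReduced (K₀ ⊗[R] C) := by
    intro hred
    apply h
    let e : B ⊗[A] K₀ ≃+* K₀ ⊗[R] C :=
      (Algebra.TensorProduct.comm A K₀ B).symm.toRingEquiv.trans
        (Algebra.TensorProduct.cancelBaseChange A R K₀ K₀ B).symm.toRingEquiv
    exact isReduced_of_injective e e.injective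
  -- Step 2
  have h2 : ∃ z : K₀ ⊗[R] C, IsNilpotent z ∧ z ≠ 0 := by
    by_contra hcon
    push Not at hcon
    exact h1 ⟨fun z hz => hcon z hz⟩
  obtain ⟨z, hznil, hz0⟩ := h2
  let g : C →ₗ[R] K₀ ⊗[R] C := TensorProduct.mk R K₀ C 1
  haveI hloc : IsLocalizedModule (nonZeroDivisors R) g :=
    (isLocalizedModule_iff_isBaseChange (nonZeroDivisors R) K₀ g).mpr
      (TensorProduct.isBaseChange R C K₀)
  have hact : ∀ (r : R) (w : K₀ ⊗[R] C), r ≠ 0 → r • w = 0 → w = 0 := by
    intro r w hr hw
    rw [← algebraMap_smul K₀ r w] at hw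
    rcases smul_eq_zero.mp hw with h' | h'
    · exact absurd (hφ₀ (by rw [map_zero]; exact h')) hr
    · exact h'
  obtain ⟨⟨c, s⟩, hcs⟩ := IsLocalizedModule.surj (nonZeroDivisors R) g z
  have hs0 : (s : R) ≠ 0 := nonZeroDivisors.ne_zero s.2
  have hcs' : (s : R) • z = g c := hcs
  have hgc0 : g c ≠ 0 := by
    intro h0
    rw [h0] at hcs'
    exact hz0 (hact _ z hs0 hcs')
  have hgcnil : ∃ n : ℕ, (g c) ^ n = 0 := by
    obtain ⟨m, hm⟩ := hznil
    refine ⟨m, ?_⟩
    rw [← hcs', smul_pow, hm]
    exact smul_zero _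
  obtain ⟨n, hn⟩ := hgcnil
  have hgpow : ∀ k : ℕ, (g c) ^ k = g (c ^ k) := by
    intro k
    change ((1 : K₀) ⊗ₜ[R] c) ^ k = (1 : K₀) ⊗ₜ[R] (c ^ k)
    rw [Algebra.TensorProduct.tmul_pow, one_pow]
  have hn1 : g (c ^ (n + 1)) = 0 := by
    rw [← hgpow, pow_succ, hn]
    exact zero_mul (g c)
  obtain ⟨t, ht⟩ := (IsLocalizedModule.eq_zero_iff (nonZeroDivisors R) g).mp hn1
  have ht0 : (t : R) ≠ 0 := nonZeroDivisors.ne_zero t.2
  have ht' : (t : R) • c ^ (n + 1) = 0 := ht
  let x : C := (t : R) • c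
  have hxnil : IsNilpotent x := by
    refine ⟨n + 1, ?_⟩
    change ((t : R) • c) ^ (n + 1) = 0
    rw [smul_pow, pow_succ, mul_smul, ht', smul_zero]
  have htf : ∀ r : R, r ≠ 0 → r • x ≠ 0 := by
    intro r hr hrx
    have h3 : g (r • x) = 0 := by rw [hrx, map_zero]
    change g (r • (t : R) • c) = 0 at h3
    rw [map_smul, map_smul] at h3
    exact hgc0 (hact _ _ ht0 (hact _ _ hr h3))
  -- Step 3
  obtain ⟨a', ha', hK⟩ := not_isReduced_of_nilpotent_torsionFree x hxnil htf
  obtain ⟨a, rfl⟩ := Ideal.Quotient.mk_surjective a'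
  refine ⟨a, fun h0 => ha' (Ideal.Quotient.eq_zero_iff_mem.mpr h0), ?_⟩
  intro K _ _ hker haK hred
  let φ : R →+* K := Ideal.Quotient.lift p₀ (algebraMap A K) (fun t ht => hker t ht)
  letI algRK : Algebra R K := φ.toAlgebra
  haveI : IsScalarTower A R K := IsScalarTower.of_algebraMap_eq (fun t => rfl)
  have haK' : algebraMap R K (Ideal.Quotient.mk p₀ a) ≠ 0 := haK
  apply hK K haK'
  let e : K ⊗[R] C ≃+* B ⊗[A] K :=
    (Algebra.TensorProduct.cancelBaseChange A R K K B).toRingEquiv.trans
      (Algebra.TensorProduct.comm A K B).toRingEquiv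
  exact isReduced_of_injective e e.injective

end Groth.Agent.Helper7.NonRed
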