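import Mathlib
import Groth.Agent.Lib.Helper7.NonRed.Alg
import Groth.Agent.Lib.Helper7.ConsImg.Main

/-! helper7: spreading out geometric non-reducedness at the level of algebras: descent to a
finitely generated subextension, then generic freeness and images of finite type maps. -/

set_option linter.style.haveILetI false
set_option linter.unusedVariables false
set_option linter.unusedSectionVars false
set_option autoImplicit false

open TensorProduct

namespace Groth.Agent.Helper7.NonRed

universe u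

/-- Reducedness of `(R ⊗[A] B) ⊗[R] K` and of `B ⊗[A] K` are equivalent. -/
theorem isReduced_baseChange_iff (A R B K : Type u) [CommRing A] [CommRing R] [CommRing B]
    [CommRing K] [Algebra A R] [Algebra A B] [Algebra A K] [Algebra R K] [IsScalarTower A R K] :
    IsReduced ((R ⊗[A] B) ⊗[R] K) ↔ IsReduced (B ⊗[A] K) := by
  let e : (R ⊗[A] B) ⊗[R] K ≃+* B ⊗[A] K :=
    (Algebra.TensorProduct.comm R (R ⊗[A] B) K).toRingEquiv.trans
      ((Algebra.TensorProduct.cancelBaseChange A R K K B).toRingEquiv.trans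
        (Algebra.TensorProduct.comm A K B).toRingEquiv)
  exact ⟨fun h => isReduced_of_injective e.symm e.symm.injective,
    fun h => isReduced_of_injective e e.injective⟩

/-- Non-reducedness descends to a finitely generated subextension. -/
theorem exists_fg_subalgebra_not_isReduced {A B : Type u} [CommRing A] [CommRing B] [Algebra A B]
    (K : Type u) [Field K] [Algebra A K] (h : ¬ IsReduced (B ⊗[A] K)) :
    ∃ R₁ : Subalgebra A K, R₁.FG ∧ ¬ IsReduced (B ⊗[A] FractionRing R₁) := by
  classical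
  obtain ⟨z, hznil, hz0⟩ : ∃ z : B ⊗[A] K, IsNilpotent z ∧ z ≠ 0 := by
    by_contra hcon
    push Not at hcon
    exact h ⟨fun z hz => hcon z hz⟩
  obtain ⟨N', hN'fin, hN'⟩ := TensorProduct.exists_finite_submodule_right_of_setFinite
    ({z} : Set (B ⊗[A] K)) (Set.finite_singleton z)
  obtain ⟨z', hz'⟩ : z ∈ LinearMap.range (N'.subtype.lTensor B) := hN' rfl
  obtain ⟨s, hs⟩ := (Module.Finite.iff_fg.mp hN'fin)
  let R₁ : Subalgebra A K := Algebra.adjoin A (↑s : Set K)
  have hle : N' ≤ Subalgebra.toSubmodule R₁ := by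
    rw [← hs]
    exact Algebra.span_le_adjoin A _
  refine ⟨R₁, Subalgebra.fg_adjoin_finset s, ?_⟩
  let K₁ := FractionRing R₁
  have hinj : Function.Injective (algebraMap R₁ K) := Subtype.val_injective
  let ι : K₁ →+* K := IsFractionRing.lift hinj
  have hι : ∀ r : R₁, ι (algebraMap R₁ K₁ r) = (r : K) :=
    fun r => IsFractionRing.lift_algebraMap hinj r
  letI algK₁K : Algebra K₁ K := ι.toAlgebra
  haveI : IsScalarTower A K₁ K := IsScalarTower.of_algebraMap_eq (fun t => by
    rw [IsScalarTower.algebraMap_apply A R₁ K₁]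
    change algebraMap A K t = ι (algebraMap R₁ K₁ (algebraMap A R₁ t))
    rw [hι]
    rfl)
  -- the A-linear maps
  let ιₗ : K₁ →ₗ[A] K := (IsScalarTower.toAlgHom A K₁ K).toLinearMap
  let θ : N' →ₗ[A] K₁ := (IsScalarTower.toAlgHom A R₁ K₁).toLinearMap ∘ₗ
    (Subalgebra.toSubmoduleEquiv R₁).toLinearMap ∘ₗ Submodule.inclusion hle
  have hιθ : ιₗ ∘ₗ θ = N'.subtype := by
    ext c
    change ι (algebraMap R₁ K₁ ⟨c.1, hle c.2⟩) = c.1
    rw [hι]
  let z₁ : B ⊗[A] K₁ := (θ.lTensor B) z'
  have hz₁ : (ιₗ.lTensor B) z₁ = z := by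
    change (ιₗ.lTensor B) ((θ.lTensor B) z') = z
    rw [← LinearMap.lTensor_comp_apply, hιθ]
    exact hz'
  -- retraction
  obtain ⟨ρ, hρ⟩ := LinearMap.exists_leftInverse_of_injective (Algebra.linearMap K₁ K)
    (LinearMap.ker_eq_bot.mpr (algebraMap K₁ K).injective)
  let ρA : K →ₗ[A] K₁ := ρ.restrictScalars A
  have hρι : ρA ∘ₗ ιₗ = LinearMap.id := by
    ext k
    exact LinearMap.congr_fun hρ k
  have hjinj : Function.Injective (ιₗ.lTensor B) := by
    apply Function.LeftInverse.injective (g := ρA.lTensor B)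
    intro w
    rw [← LinearMap.lTensor_comp_apply, hρι, LinearMap.lTensor_id, LinearMap.id_apply]
  -- the ring hom
  let j : B ⊗[A] K₁ →ₐ[A] B ⊗[A] K :=
    Algebra.TensorProduct.map (AlgHom.id A B) (IsScalarTower.toAlgHom A K₁ K)
  have hj : ∀ w, j w = (ιₗ.lTensor B) w := by
    intro w
    induction w using TensorProduct.induction_on with
    | zero => simp
    | tmul b k => rfl
    | add x y hx hy => rw [map_add, map_add, hx, hy]
  intro hred
  have hz₁0 : z₁ ≠ 0 := by
    intro h0
    rw [h0, map_zero] at hz₁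
    exact hz0 hz₁.symm
  apply hz₁0
  apply IsNilpotent.eq_zero
  obtain ⟨n, hn⟩ := hznil
  refine ⟨n, ?_⟩
  apply hjinj
  rw [← hj, map_pow, hj, hz₁, hn, map_zero]

/-- GNR: if `B ⊗[A] K` is not reduced for some field `K` over `A`, then over a basic open of the
closure of the point of `Spec A` under `K`, every point admits a field over it with non-reduced
base change. -/
theorem exists_forall_exists_field_not_isReduced {A B : Type u} [CommRing A] [CommRing B]
    [Algebra A B] [Algebra.FiniteType A B] (K : Type u) [Field K] [Algebra A K]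
    (h : ¬ IsReduced (B ⊗[A] K)) :
    ∃ a : A, algebraMap A K a ≠ 0 ∧ ∀ q : PrimeSpectrum A,
      RingHom.ker (algebraMap A K) ≤ q.asIdeal → a ∉ q.asIdeal →
      ∃ (K' : Type u) (_ : Field K') (_ : Algebra A K'),
        RingHom.ker (algebraMap A K') = q.asIdeal ∧ ¬ IsReduced (B ⊗[A] K') := by
  classical
  obtain ⟨R₁, hR₁fg, hnr⟩ := exists_fg_subalgebra_not_isReduced K h
  haveI : Algebra.FiniteType A R₁ := (Subalgebra.fg_iff_finiteType R₁).mp hR₁fg
  let K₁ := FractionRing R₁
  have hinjK₁ : Function.Injective (algebraMap R₁ K₁) := IsFractionRing.injective R₁ K₁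
  have hfrac : ∀ z : K₁, ∃ s a : R₁, algebraMap R₁ K₁ s ≠ 0 ∧
      algebraMap R₁ K₁ s * z = algebraMap R₁ K₁ a := by
    intro z
    obtain ⟨x, y, hy, hxy⟩ := IsFractionRing.div_surjective R₁ z
    have hy0 : algebraMap R₁ K₁ y ≠ 0 := by
      intro h0
      exact nonZeroDivisors.ne_zero hy (hinjK₁ (by rw [h0, map_zero]))
    refine ⟨y, x, hy0, ?_⟩
    rw [← hxy, mul_div_cancel₀ _ hy0]
  have hnr' : ¬ IsReduced ((R₁ ⊗[A] B) ⊗[R₁] K₁) :=
    fun hh => hnr ((isReduced_baseChange_iff A R₁ B K₁).mp hh)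
  obtain ⟨a₁, ha₁, hK'⟩ := exists_forall_not_isReduced (A := R₁) (B := R₁ ⊗[A] B) K₁ hfrac hnr'
  have ha₁0 : a₁ ≠ 0 := fun h0 => ha₁ (by rw [h0, map_zero])
  let T := Localization.Away a₁
  haveI : Algebra.FiniteType R₁ T :=
    haveI : Algebra.FinitePresentation R₁ T := IsLocalization.Away.finitePresentation a₁
    Algebra.FiniteType.of_finitePresentation
  haveI : Algebra.FiniteType A T := Algebra.FiniteType.trans (S := R₁) inferInstance inferInstance
  haveI : IsDomain T := IsLocalization.isDomain_of_le_nonZeroDivisors T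
    (powers_le_nonZeroDivisors_of_noZeroDivisors ha₁0)
  -- the map T → K
  have hu : IsUnit (algebraMap R₁ K a₁) := IsUnit.mk0 _ (fun h0 => ha₁0 (Subtype.ext h0))
  let τ : T →+* K := IsLocalization.Away.lift a₁ hu
  have hτ : ∀ r : R₁, τ (algebraMap R₁ T r) = (r : K) :=
    fun r => IsLocalization.Away.lift_eq a₁ hu r
  let P₀ : PrimeSpectrum A :=
    PrimeSpectrum.comap (algebraMap A T) ⟨⊥, Ideal.isPrime_bot⟩
  have hP₀ : ∀ t : A, t ∈ P₀.asIdeal ↔ algebraMap A K t = 0 := by
    intro t
    change algebraMap A T t ∈ (⊥ : Ideal T) ↔ _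
    rw [Ideal.mem_bot, IsScalarTower.algebraMap_apply A R₁ T]
    constructor
    · intro h0
      have := congrArg τ h0
      rw [hτ, map_zero] at this
      exact this
    · intro h0
      have h1 : algebraMap A R₁ t = 0 := Subtype.ext h0
      rw [h1, map_zero]
  obtain ⟨a, ha, hrange⟩ := Groth.Agent.Helper7.ConsImg.exists_notMem_forall_mem_range
    (R := A) (T := T) P₀ ⟨_, rfl⟩
  refine ⟨a, fun h0 => ha ((hP₀ a).mpr h0), fun q hq haq => ?_⟩
  have hP₀q : P₀.asIdeal ≤ q.asIdeal := fun t ht => hq (RingHom.mem_ker.mpr ((hP₀ t).mp ht))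
  obtain ⟨Q, hQ⟩ := hrange q hP₀q haq
  refine ⟨Q.asIdeal.ResidueField, inferInstance, inferInstance, ?_, ?_⟩
  · ext t
    rw [RingHom.mem_ker, IsScalarTower.algebraMap_apply A T Q.asIdeal.ResidueField,
      Ideal.algebraMap_residueField_eq_zero, ← hQ]
    exact Iff.rfl
  · intro hred
    apply hK' Q.asIdeal.ResidueField
    · intro t ht
      have : t = 0 := hinjK₁ (by rw [ht, map_zero])
      rw [this, map_zero]
    · rw [IsScalarTower.algebraMap_apply R₁ T Q.asIdeal.ResidueField]
      exact ((IsLocalization.Away.algebraMap_isUnit (S := T) a₁).map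
        (algebraMap T Q.asIdeal.ResidueField)).ne_zero
    · exact (isReduced_baseChange_iff A R₁ B Q.asIdeal.ResidueField).mpr hred

end Groth.Agent.Helper7.NonRed
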