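import Mathlib
import Groth.Agent.Lib.Helper4.FiberChart

/-! helper7: affine charts of base changes of a morphism along ring-valued points of an affine
open of the target (generalising helper4 fibre charts), and reducedness through charts. -/

set_option linter.style.haveILetI false
set_option linter.unusedVariables false
set_option linter.unusedSectionVars false
set_option autoImplicit false
set_option backward.isDefEq.respectTransparency.types false

open CategoryTheory CategoryTheory.Limits AlgebraicGeometry TopologicalSpace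
open scoped TensorProduct

namespace Groth.Agent.Helper7.NonRed

universe u

open Groth.Agent.Lib.Helper4.FlatIntegral

/-- Affine charts of a base change of `f : X ⟶ Y` along a ring-valued point of an affine open
of `Y`. -/
theorem pullbackChart {X Y P : Scheme.{u}} (f : X ⟶ Y) {V : Y.Opens} (hV : IsAffineOpen V)
    {U : X.Opens} (hU : IsAffineOpen U) (e : U ≤ f ⁻¹ᵁ V) (K : Type u) [CommRing K]
    [Algebra Γ(Y, V) K] (fst : P ⟶ X) (snd : P ⟶ Spec (.of K))
    (hP : IsPullback fst snd f
      (Spec.map (CommRingCat.ofHom (algebraMap Γ(Y, V) K)) ≫ hV.fromSpec)) :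
    letI := (f.appLE V U e).hom.toAlgebra
    ∃ l : Spec (.of (Γ(X, U) ⊗[Γ(Y, V)] K)) ⟶ P,
      IsOpenImmersion l ∧
      l ≫ fst = Spec.map (CommRingCat.ofHom
        (Algebra.TensorProduct.includeLeftRingHom :
          Γ(X, U) →+* Γ(X, U) ⊗[Γ(Y, V)] K)) ≫ hU.fromSpec ∧
      Set.range l = fst ⁻¹' U := by
  let φ : Γ(Y, V) ⟶ Γ(X, U) := f.appLE V U e
  algebraize [φ.hom]
  have hpo := CommRingCat.isPushout_tensorProduct Γ(Y, V) Γ(X, U) K
  have hpb := isPullback_SpecMap_of_isPushout _ _ _ _ hpo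
  have hpb2 := isPullback_comp_mono hpb hV.fromSpec
  have e1 : Spec.map (CommRingCat.ofHom (algebraMap Γ(Y, V) Γ(X, U))) ≫ hV.fromSpec
      = hU.fromSpec ≫ f := IsAffineOpen.SpecMap_appLE_fromSpec f hV hU e
  rw [e1] at hpb2
  let l := hP.lift _ _ (by rw [Category.assoc]; exact hpb2.w)
  have hl1 : l ≫ fst = _ := hP.lift_fst _ _ _
  have hl2 : l ≫ snd = _ := hP.lift_snd _ _ _
  have hsq : IsPullback l (Spec.map (CommRingCat.ofHom Algebra.TensorProduct.includeLeftRingHom))
      fst hU.fromSpec := by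
    refine IsPullback.of_right ?_ hl1 hP.flip
    rw [hl2]
    exact hpb2.flip
  have hlo : IsOpenImmersion l :=
    MorphismProperty.of_isPullback (P := @IsOpenImmersion) hsq.flip inferInstance
  refine ⟨l, hlo, hl1, ?_⟩
  have h3 : l = hsq.isoPullback.hom ≫ pullback.fst _ _ := (hsq.isoPullback_hom_fst).symm
  rw [h3, Scheme.Hom.comp_base, TopCat.coe_comp, Set.range_comp,
    Set.range_eq_univ.mpr hsq.isoPullback.hom.surjective, Set.image_univ,
    Scheme.Pullback.range_fst, hU.range_fromSpec]

/-- If all affine charts of a base change are reduced then the base change is reduced. -/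
theorem isReduced_of_charts {X Y P : Scheme.{u}} (f : X ⟶ Y) {V : Y.Opens}
    (hV : IsAffineOpen V) (K : Type u) [CommRing K] [Algebra Γ(Y, V) K] (fst : P ⟶ X)
    (snd : P ⟶ Spec (.of K))
    (hP : IsPullback fst snd f
      (Spec.map (CommRingCat.ofHom (algebraMap Γ(Y, V) K)) ≫ hV.fromSpec))
    (H : ∀ (U : X.Opens) (hU : IsAffineOpen U) (e : U ≤ f ⁻¹ᵁ V),
      letI := (f.appLE V U e).hom.toAlgebra
      _root_.IsReduced (Γ(X, U) ⊗[Γ(Y, V)] K)) :
    IsReduced P := by
  have hst : ∀ z : P, _root_.IsReduced (P.presheaf.stalk z) := by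
    intro z
    have hxV : fst z ∈ f ⁻¹ᵁ V := by
      change f (fst z) ∈ V
      have h1 : f (fst z) = hV.fromSpec
          ((Spec.map (CommRingCat.ofHom (algebraMap Γ(Y, V) K))) (snd z)) := by
        rw [← Scheme.Hom.comp_apply, hP.w, Scheme.Hom.comp_apply, Scheme.Hom.comp_apply]
      rw [h1]
      have h2 : hV.fromSpec ((Spec.map (CommRingCat.ofHom (algebraMap Γ(Y, V) K))) (snd z)) ∈
          Set.range hV.fromSpec := ⟨_, rfl⟩
      rw [hV.range_fromSpec] at h2
      exact h2
    obtain ⟨_, ⟨U, hU, rfl⟩, hxU, hUV⟩ := (X.isBasis_affineOpens).exists_subset_of_mem_open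
      hxV (f ⁻¹ᵁ V).isOpen
    have e : U ≤ f ⁻¹ᵁ V := hUV
    letI := (f.appLE V U e).hom.toAlgebra
    obtain ⟨l, hl, -, hrange⟩ := pullbackChart f hV hU e K fst snd hP
    haveI := hl
    have hz : z ∈ Set.range l := by
      rw [hrange]; exact hxU
    obtain ⟨w, rfl⟩ := hz
    haveI : _root_.IsReduced (Γ(X, U) ⊗[Γ(Y, V)] K) := H U hU e
    haveI : IsReduced (Spec (.of (Γ(X, U) ⊗[Γ(Y, V)] K))) := inferInstance
    exact isReduced_of_injective _
      (asIso <| l.stalkMap w).commRingCatIsoToRingEquiv.injective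
  exact isReduced_of_isReduced_stalk _

/-- If some affine chart of a base change is not reduced then the base change is not reduced. -/
theorem not_isReduced_of_chart {X Y P : Scheme.{u}} (f : X ⟶ Y) {V : Y.Opens}
    (hV : IsAffineOpen V) (K : Type u) [CommRing K] [Algebra Γ(Y, V) K] (fst : P ⟶ X)
    (snd : P ⟶ Spec (.of K))
    (hP : IsPullback fst snd f
      (Spec.map (CommRingCat.ofHom (algebraMap Γ(Y, V) K)) ≫ hV.fromSpec))
    (U : X.Opens) (hU : IsAffineOpen U) (e : U ≤ f ⁻¹ᵁ V)
    (H : letI := (f.appLE V U e).hom.toAlgebra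
      ¬ _root_.IsReduced (Γ(X, U) ⊗[Γ(Y, V)] K)) :
    ¬ IsReduced P := by
  intro hred
  letI := (f.appLE V U e).hom.toAlgebra
  obtain ⟨l, hl, -, -⟩ := pullbackChart f hV hU e K fst snd hP
  haveI := hl
  haveI := hred
  have h1 : IsReduced (Spec (.of (Γ(X, U) ⊗[Γ(Y, V)] K))) :=
    isReduced_of_isOpenImmersion l
  exact H ((affine_isReduced_iff _).mp h1)

end Groth.Agent.Helper7.NonRed
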