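import Mathlib
import Groth.Agent.Lib.Helper7.NonRed.GeomAlg
import Groth.Agent.Lib.Helper7.NonRed.Chart
import Groth.Agent.Lib.Helper4.RadBir3

/-! helper7: a morphism locally of finite type to an irreducible scheme whose generic fibre is not
geometrically reduced has non-geometrically-reduced fibres over a nonempty open. -/

set_option linter.style.haveILetI false
set_option linter.unusedVariables false
set_option linter.unusedSectionVars false
set_option autoImplicit false
set_option backward.isDefEq.respectTransparency.types false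

open CategoryTheory CategoryTheory.Limits AlgebraicGeometry TopologicalSpace
open scoped TensorProduct

namespace Groth.Agent.Helper7.NonRed

universe u

/-- The canonical morphism from the spectrum of a residue field through an affine open. -/
theorem fromSpecResidueField_eq {Y : Scheme.{u}} {V : Y.Opens} (hV : IsAffineOpen V) (y : Y)
    (hy : y ∈ V) :
    Y.fromSpecResidueField y = Spec.map (Y.evaluation V y hy) ≫ hV.fromSpec := by
  change _ = Spec.map (Y.presheaf.germ V y hy ≫ Y.residue _) ≫ hV.fromSpec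
  rw [Spec.map_comp, Category.assoc]
  change _ = _ ≫ hV.fromSpecStalk hy
  rw [hV.fromSpecStalk_eq_fromSpecStalk hy]
  rfl

/-- A field-valued point of `Spec κ(y)` composed to `Y`, through an affine open. -/
theorem comp_fromSpecResidueField_eq {Y : Scheme.{u}} {V : Y.Opens} (hV : IsAffineOpen V) (y : Y)
    (hy : y ∈ V) (K : Type u) [CommRing K] (ψ : Y.residueField y ⟶ .of K) :
    letI : Algebra Γ(Y, V) K := (Y.evaluation V y hy ≫ ψ).hom.toAlgebra
    Spec.map ψ ≫ Y.fromSpecResidueField y =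
      Spec.map (CommRingCat.ofHom (algebraMap Γ(Y, V) K)) ≫ hV.fromSpec := by
  rw [fromSpecResidueField_eq hV y hy, ← Category.assoc, ← Spec.map_comp]
  rfl

/-- S1331. -/
theorem not_geometricallyReduced_fiber_near_generic {X Y : Scheme.{u}} (f : X ⟶ Y)
    [IrreducibleSpace ↑Y] [LocallyOfFiniteType f]
    (h : ¬ GeometricallyReduced (f.fiberToSpecResidueField (genericPoint ↑Y))) :
    ∃ V : Y.Opens, (V : Set ↑Y).Nonempty ∧
      ∀ y ∈ V, ¬ GeometricallyReduced (f.fiberToSpecResidueField y) := by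
  classical
  -- Step 1: a field-valued point with non-reduced base change
  obtain ⟨K, hKf, y₀, Z, fst, snd, hZ, hZred⟩ : ∃ (K : Type u) (_ : Field K)
      (y₀ : Spec (.of K) ⟶ Spec (Y.residueField (genericPoint Y))) (Z : Scheme.{u})
      (fst : Z ⟶ f.fiber (genericPoint Y)) (snd : Z ⟶ Spec (.of K)),
      IsPullback fst snd (f.fiberToSpecResidueField (genericPoint Y)) y₀ ∧ ¬ IsReduced Z := by
    by_contra hcon
    push Not at hcon
    exact h ⟨fun K _ y₀ Z fst snd hZ => hcon K _ y₀ Z fst snd hZ⟩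
  obtain ⟨V₀, hV₀, hηV₀⟩ : ∃ V : Y.Opens, IsAffineOpen V ∧ genericPoint Y ∈ V := by
    obtain ⟨_, ⟨V, hV, rfl⟩, hy, -⟩ := (Y.isBasis_affineOpens).exists_subset_of_mem_open
      (Set.mem_univ (genericPoint Y)) isOpen_univ
    exact ⟨V, hV, hy⟩
  let ψ₀ : Y.residueField (genericPoint Y) ⟶ .of K := Spec.preimage y₀
  have hψ₀ : Spec.map ψ₀ = y₀ := Spec.map_preimage y₀
  letI algK : Algebra Γ(Y, V₀) K :=
    (Y.evaluation V₀ (genericPoint Y) hηV₀ ≫ ψ₀).hom.toAlgebra
  have hfib : IsPullback (f.fiberι (genericPoint Y))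
      (f.fiberToSpecResidueField (genericPoint Y)) f
      (Y.fromSpecResidueField (genericPoint Y)) := IsPullback.of_hasPullback _ _
  have hP : IsPullback (fst ≫ f.fiberι (genericPoint Y)) snd f
      (Spec.map (CommRingCat.ofHom (algebraMap Γ(Y, V₀) K)) ≫ hV₀.fromSpec) := by
    rw [← comp_fromSpecResidueField_eq hV₀ (genericPoint Y) hηV₀ K ψ₀, hψ₀]
    exact hZ.paste_horiz hfib
  -- Step 3: a non-reduced chart
  have hex : ∃ (U : X.Opens) (hU : IsAffineOpen U) (e : U ≤ f ⁻¹ᵁ V₀),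
      letI := (f.appLE V₀ U e).hom.toAlgebra
      ¬ _root_.IsReduced (Γ(X, U) ⊗[Γ(Y, V₀)] K) := by
    by_contra hcon
    push Not at hcon
    exact hZred (isReduced_of_charts f hV₀ K _ snd hP hcon)
  obtain ⟨U, hU, e, hnr⟩ := hex
  letI algB : Algebra Γ(Y, V₀) Γ(X, U) := (f.appLE V₀ U e).hom.toAlgebra
  haveI : Algebra.FiniteType Γ(Y, V₀) Γ(X, U) :=
    LocallyOfFiniteType.finiteType_appLE f hV₀ hU e
  obtain ⟨a, ha, hK'⟩ := exists_forall_exists_field_not_isReduced (A := Γ(Y, V₀))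
    (B := Γ(X, U)) K hnr
  have hψ₀inj : Function.Injective ψ₀.hom := ψ₀.hom.injective
  have hev : ∀ t : Γ(Y, V₀), algebraMap Γ(Y, V₀) K t =
      ψ₀.hom ((Y.evaluation V₀ (genericPoint Y) hηV₀).hom t) := fun t => rfl
  have hηa : genericPoint Y ∈ Y.basicOpen a := by
    apply (Y.evaluation_ne_zero_iff_mem_basicOpen (genericPoint Y) hηV₀ a).mp
    intro h0
    apply ha
    rw [hev]
    change ψ₀.hom ((Y.evaluation V₀ (genericPoint Y) hηV₀) a) = 0
    rw [h0, map_zero]
  refine ⟨Y.basicOpen a, ⟨_, hηa⟩, fun y hy => ?_⟩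
  have hyV₀ : y ∈ V₀ := Y.basicOpen_le a hy
  let q : PrimeSpectrum Γ(Y, V₀) := hV₀.primeIdealOf ⟨y, hyV₀⟩
  have hkerq : RingHom.ker (Groth.Agent.Lib.Helper4.NormFibre2.rho y hyV₀) = q.asIdeal :=
    Groth.Agent.Lib.Helper4.NormFibre2.ker_rho hV₀ y hyV₀
  have hrho : ∀ t : Γ(Y, V₀), Groth.Agent.Lib.Helper4.NormFibre2.rho y hyV₀ t =
      (Y.evaluation V₀ y hyV₀).hom t := fun t => rfl
  have hq1 : RingHom.ker (algebraMap Γ(Y, V₀) K) ≤ q.asIdeal := by
    intro t ht
    rw [RingHom.mem_ker, hev] at ht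
    have ht' : (Y.evaluation V₀ (genericPoint Y) hηV₀).hom t = 0 :=
      hψ₀inj (by rw [ht, map_zero])
    rw [← hkerq, RingHom.mem_ker, hrho]
    by_contra hne
    have h1 : y ∈ Y.basicOpen t := (Y.evaluation_ne_zero_iff_mem_basicOpen y hyV₀ t).mp hne
    have h2 : genericPoint Y ∈ Y.basicOpen t :=
      ((genericPoint_spec Y).mem_open_set_iff (Y.basicOpen t).isOpen).mpr ⟨y, trivial, h1⟩
    exact (Y.evaluation_ne_zero_iff_mem_basicOpen (genericPoint Y) hηV₀ t).mpr h2 ht'
  have hq2 : a ∉ q.asIdeal := by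
    rw [← hkerq, RingHom.mem_ker, hrho]
    exact (Y.evaluation_ne_zero_iff_mem_basicOpen y hyV₀ a).mpr hy
  obtain ⟨K', hK'f, algK', hker', hnr'⟩ := hK' q hq1 hq2
  obtain ⟨σ, hσ⟩ := Groth.Agent.Lib.Helper4.NormFibre2.exists_lift_rho hV₀ y hyV₀
    (algebraMap Γ(Y, V₀) K') hker'
  let ψ' : Y.residueField y ⟶ .of K' := CommRingCat.ofHom σ
  have hfib' : IsPullback (f.fiberι y) (f.fiberToSpecResidueField y) f
      (Y.fromSpecResidueField y) := IsPullback.of_hasPullback _ _
  have hsq : IsPullback (pullback.fst (f.fiberToSpecResidueField y) (Spec.map ψ'))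
      (pullback.snd (f.fiberToSpecResidueField y) (Spec.map ψ'))
      (f.fiberToSpecResidueField y) (Spec.map ψ') := IsPullback.of_hasPullback _ _
  have h2 : CommRingCat.ofHom (algebraMap Γ(Y, V₀) K') = Y.evaluation V₀ y hyV₀ ≫ ψ' := by
    apply CommRingCat.hom_ext
    exact hσ.symm
  have hP' : IsPullback
      (pullback.fst (f.fiberToSpecResidueField y) (Spec.map ψ') ≫ f.fiberι y)
      (pullback.snd (f.fiberToSpecResidueField y) (Spec.map ψ')) f
      (Spec.map (CommRingCat.ofHom (algebraMap Γ(Y, V₀) K')) ≫ hV₀.fromSpec) := by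
    rw [h2, Spec.map_comp, Category.assoc, ← fromSpecResidueField_eq hV₀ y hyV₀]
    exact hsq.paste_horiz hfib'
  have hnotred : ¬ IsReduced (pullback (f.fiberToSpecResidueField y) (Spec.map ψ')) :=
    not_isReduced_of_chart f hV₀ K' _ _ hP' U hU e hnr'
  intro hg
  exact hnotred (hg.geometrically_isReduced (Spec.map ψ') _ _ hsq)

end Groth.Agent.Helper7.NonRed
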