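import Mathlib
import Groth.Agent.Lib.Helper7.NonRed.Alg
import Groth.Agent.Lib.Helper4.FiberChart
import Groth.Agent.Lib.Helper4.RadBir3

/-! helper7: a morphism locally of finite type to an irreducible scheme with non-reduced generic
fibre has non-reduced fibres over a nonempty open (charts of fibres by helper4). -/

set_option linter.style.haveILetI false
set_option linter.unusedVariables false
set_option linter.unusedSectionVars false
set_option autoImplicit false
set_option backward.isDefEq.respectTransparency.types false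

open CategoryTheory CategoryTheory.Limits AlgebraicGeometry TopologicalSpace
open scoped TensorProduct

namespace Groth.Agent.Helper7.NonRed

universe u

open Groth.Agent.Lib.Helper4.FiberChart

/-- If all affine charts of a fibre are reduced then the fibre is reduced. -/
theorem isReduced_fiber_of_charts {X Y : Scheme.{u}} (f : X ⟶ Y) {V : Y.Opens}
    (hV : IsAffineOpen V) (y : Y) (hy : y ∈ V)
    (H : ∀ (U : X.Opens) (hU : IsAffineOpen U) (e : U ≤ f ⁻¹ᵁ V),
      letI := (f.appLE V U e).hom.toAlgebra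
      letI := (Y.evaluation V y hy).hom.toAlgebra
      _root_.IsReduced (Γ(X, U) ⊗[Γ(Y, V)] (Y.residueField y))) :
    IsReduced (f.fiber y) := by
  have hst : ∀ z : (f.fiber y : Scheme.{u}),
      _root_.IsReduced ((f.fiber y).presheaf.stalk z) := by
    intro z
    have hfz : f ((f.fiberι y) z) = y := by
      have : (f.fiberι y) z ∈ Set.range (f.fiberι y) := ⟨z, rfl⟩
      rw [Scheme.Hom.range_fiberι] at this
      exact this
    have hxV : (f.fiberι y) z ∈ f ⁻¹ᵁ V := by
      change f ((f.fiberι y) z) ∈ V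
      rw [hfz]; exact hy
    obtain ⟨_, ⟨U, hU, rfl⟩, hxU, hUV⟩ := (X.isBasis_affineOpens).exists_subset_of_mem_open
      hxV (f ⁻¹ᵁ V).isOpen
    have e : U ≤ f ⁻¹ᵁ V := hUV
    letI := (f.appLE V U e).hom.toAlgebra
    letI := (Y.evaluation V y hy).hom.toAlgebra
    obtain ⟨l, hl, -, hrange⟩ := fiberChart f hV hU e y hy
    haveI := hl
    have hz : z ∈ Set.range l := by
      rw [hrange]; exact hxU
    obtain ⟨w, rfl⟩ := hz
    haveI : _root_.IsReduced (Γ(X, U) ⊗[Γ(Y, V)] (Y.residueField y)) := H U hU e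
    haveI : IsReduced (Spec (.of (Γ(X, U) ⊗[Γ(Y, V)] (Y.residueField y)))) := inferInstance
    exact isReduced_of_injective _
      (asIso <| l.stalkMap w).commRingCatIsoToRingEquiv.injective
  exact isReduced_of_isReduced_stalk _

/-- If some affine chart of a fibre is not reduced then the fibre is not reduced. -/
theorem not_isReduced_fiber_of_chart {X Y : Scheme.{u}} (f : X ⟶ Y) {V : Y.Opens}
    (hV : IsAffineOpen V) (y : Y) (hy : y ∈ V)
    (U : X.Opens) (hU : IsAffineOpen U) (e : U ≤ f ⁻¹ᵁ V)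
    (H : letI := (f.appLE V U e).hom.toAlgebra
      letI := (Y.evaluation V y hy).hom.toAlgebra
      ¬ _root_.IsReduced (Γ(X, U) ⊗[Γ(Y, V)] (Y.residueField y))) :
    ¬ IsReduced (f.fiber y) := by
  intro hred
  letI := (f.appLE V U e).hom.toAlgebra
  letI := (Y.evaluation V y hy).hom.toAlgebra
  obtain ⟨l, hl, -, -⟩ := fiberChart f hV hU e y hy
  haveI := hl
  haveI := hred
  have h1 : IsReduced (Spec (.of (Γ(X, U) ⊗[Γ(Y, V)] (Y.residueField y)))) :=
    isReduced_of_isOpenImmersion l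
  exact H ((affine_isReduced_iff _).mp h1)

/-- S1330. -/
theorem not_isReduced_fiber_near_generic {X Y : Scheme.{u}} (f : X ⟶ Y) [IrreducibleSpace ↑Y]
    [LocallyOfFiniteType f] (h : ¬ IsReduced (f.fiber (genericPoint ↑Y))) :
    ∃ V : Y.Opens, (V : Set ↑Y).Nonempty ∧ ∀ y ∈ V, ¬ IsReduced (f.fiber y) := by
  classical
  obtain ⟨V₀, hV₀, hηV₀⟩ : ∃ V : Y.Opens, IsAffineOpen V ∧ genericPoint Y ∈ V := by
    obtain ⟨_, ⟨V, hV, rfl⟩, hy, -⟩ := (Y.isBasis_affineOpens).exists_subset_of_mem_open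
      (Set.mem_univ (genericPoint Y)) isOpen_univ
    exact ⟨V, hV, hy⟩
  -- find a non-reduced chart
  have hex : ∃ (U : X.Opens) (hU : IsAffineOpen U) (e : U ≤ f ⁻¹ᵁ V₀),
      letI := (f.appLE V₀ U e).hom.toAlgebra
      letI := (Y.evaluation V₀ (genericPoint Y) hηV₀).hom.toAlgebra
      ¬ _root_.IsReduced (Γ(X, U) ⊗[Γ(Y, V₀)] (Y.residueField (genericPoint Y))) := by
    by_contra hcon
    push Not at hcon
    exact h (isReduced_fiber_of_charts f hV₀ _ hηV₀ hcon)
  obtain ⟨U, hU, e, hnr⟩ := hex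
  letI algB : Algebra Γ(Y, V₀) Γ(X, U) := (f.appLE V₀ U e).hom.toAlgebra
  letI algK₀ : Algebra Γ(Y, V₀) (Y.residueField (genericPoint Y)) :=
    (Y.evaluation V₀ (genericPoint Y) hηV₀).hom.toAlgebra
  haveI : Algebra.FiniteType Γ(Y, V₀) Γ(X, U) :=
    LocallyOfFiniteType.finiteType_appLE f hV₀ hU e
  have hfrac : ∀ z : Y.residueField (genericPoint Y), ∃ s a : Γ(Y, V₀),
      algebraMap Γ(Y, V₀) (Y.residueField (genericPoint Y)) s ≠ 0 ∧
      algebraMap Γ(Y, V₀) (Y.residueField (genericPoint Y)) s * z =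
        algebraMap Γ(Y, V₀) (Y.residueField (genericPoint Y)) a := by
    intro z
    obtain ⟨s, a, hs, hsa⟩ :=
      Groth.Agent.Lib.Helper4.RadBir3.exists_frac_rho hV₀ (genericPoint Y) hηV₀ z
    refine ⟨s, a, ?_, hsa⟩
    intro h0
    apply hs
    rw [← Groth.Agent.Lib.Helper4.NormFibre2.ker_rho hV₀ (genericPoint Y) hηV₀, RingHom.mem_ker]
    exact h0
  obtain ⟨a, ha, hK⟩ := exists_forall_not_isReduced (A := Γ(Y, V₀)) (B := Γ(X, U))
    (Y.residueField (genericPoint Y)) hfrac hnr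
  have hηa : genericPoint Y ∈ Y.basicOpen a :=
    (Y.evaluation_ne_zero_iff_mem_basicOpen (genericPoint Y) hηV₀ a).mp ha
  refine ⟨Y.basicOpen a, ⟨_, hηa⟩, fun y hy => ?_⟩
  have hyV₀ : y ∈ V₀ := Y.basicOpen_le a hy
  apply not_isReduced_fiber_of_chart f hV₀ y hyV₀ U hU e
  letI algK : Algebra Γ(Y, V₀) (Y.residueField y) := (Y.evaluation V₀ y hyV₀).hom.toAlgebra
  apply hK (Y.residueField y)
  · intro t ht
    by_contra hne
    have h1 : y ∈ Y.basicOpen t := (Y.evaluation_ne_zero_iff_mem_basicOpen y hyV₀ t).mp hne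
    have h2 : genericPoint Y ∈ Y.basicOpen t :=
      ((genericPoint_spec Y).mem_open_set_iff (Y.basicOpen t).isOpen).mpr ⟨y, trivial, h1⟩
    exact (Y.evaluation_ne_zero_iff_mem_basicOpen (genericPoint Y) hηV₀ t).mpr h2 ht
  · exact (Y.evaluation_ne_zero_iff_mem_basicOpen y hyV₀ a).mpr hy

end Groth.Agent.Helper7.NonRed
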